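import Cfsg.Agent.FGSB.ConjP.Numeric
import Mathlib.GroupTheory.SchurZassenhaus

/-!
# Conjugate `p`-subgroups and an elementary abelian Sylow subgroup
-/

set_option autoImplicit false
set_option linter.unusedSectionVars false
set_option linter.style.haveILetI false

namespace CfsgLib.ConjP

open Subgroup Module
open scoped Pointwise

variable {G : Type*} [Group G] [Finite G] {p : ℕ} [Fact p.Prime]

/-- Subgroups of an abelian Sylow subgroup which are conjugate are conjugate in its normaliser. -/
theorem fused_in_normalizer (P : Sylow p G) (hab : IsMulCommutative (P : Subgroup G)) {H K : Subgroup G}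
    (hH : H ≤ P) (hK : K ≤ P) {g : G} (hg : K = H.map (MulAut.conj g).toMonoidHom) :
    ∃ n ∈ normalizer ((P : Subgroup G) : Set G), K = H.map (MulAut.conj n).toMonoidHom := by
  have hc : ∀ x ∈ (P : Subgroup G), ∀ y ∈ (P : Subgroup G), x * y = y * x := fun x hx y hy =>
    congrArg Subtype.val (mul_comm' (⟨x, hx⟩ : (P : Subgroup G)) ⟨y, hy⟩)
  set C := centralizer (K : Set G) with hC
  have hPC : (P : Subgroup G) ≤ C := fun x hx => mem_centralizer_iff.2 fun k hk => hc k (hK hk) x hx
  have hQC : ((g • P : Sylow p G) : Subgroup G) ≤ C := by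
    intro x hx
    rw [Sylow.coe_subgroup_smul, mem_pointwise_smul_iff_inv_smul_mem] at hx
    refine mem_centralizer_iff.2 fun k hk => ?_
    rw [hg] at hk
    obtain ⟨y, hy, rfl⟩ := hk
    have h1 : y * (g⁻¹ * x * g) = g⁻¹ * x * g * y := hc y (hH hy) _ (by simpa using hx)
    show g * y * g⁻¹ * x = x * (g * y * g⁻¹)
    calc g * y * g⁻¹ * x = g * (y * (g⁻¹ * x * g)) * g⁻¹ := by group
      _ = x * (g * y * g⁻¹) := by rw [h1]; group
  obtain ⟨c, hc'⟩ := MulAction.exists_smul_eq C ((g • P).subtype hQC) (P.subtype hPC)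
  have e : ((c : G) * g) • P = P := by
    rw [mul_smul]
    have h := congrArg (fun S : Sylow p C => (S : Subgroup C).map C.subtype) hc'
    rw [Sylow.smul_subtype] at h
    simp only [Sylow.coe_subtype, map_subgroupOf_eq_of_le hPC] at h
    rw [map_subgroupOf_eq_of_le (Sylow.smul_le hQC c)] at h
    exact Sylow.ext h
  refine ⟨c * g, Sylow.smul_eq_iff_mem_normalizer.1 e, ?_⟩
  ext z
  rw [hg, Subgroup.mem_map, Subgroup.mem_map]
  have hfix : ∀ y ∈ H, (c : G) * (g * y * g⁻¹) * (c : G)⁻¹ = g * y * g⁻¹ := fun y hy => by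
    rw [← mem_centralizer_iff.1 c.2 (g * y * g⁻¹) (hg ▸ ⟨y, hy, rfl⟩), mul_inv_cancel_right]
  constructor
  · rintro ⟨y, hy, rfl⟩
    refine ⟨y, hy, ?_⟩
    show (c : G) * g * y * ((c : G) * g)⁻¹ = g * y * g⁻¹
    conv_rhs => rw [← hfix y hy]
    group
  · rintro ⟨y, hy, rfl⟩
    refine ⟨y, hy, ?_⟩
    show g * y * g⁻¹ = (c : G) * g * y * ((c : G) * g)⁻¹
    conv_lhs => rw [← hfix y hy]
    group

/-- The statement for a group with a normal elementary abelian Sylow subgroup. -/
theorem normal_case {N : Type*} [Group N] [Finite N] (Q : Subgroup N) [Q.Normal] (hcop : (Nat.card Q).Coprime Q.index)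
    (hQ : Cfsg.IsElementaryAbelian p Q) {n : ℕ} (hn3 : 3 ≤ n) (hcard : Nat.card Q = p ^ n)
    (hsolv : Group.IsSolvable (N ⧸ Cfsg.pPrimeCore p N))
    (hfus : ∀ H K : Subgroup N, H ≤ Q → K ≤ Q → Nat.card H = Nat.card K →
      ∃ x : N, K = H.map (MulAut.conj x).toMonoidHom) :
    (n = 3 ∧ (∃ f : N ⧸ Cfsg.pPrimeCore p N →* ↥(Cfsg.semiaffineGroup (GaloisField p 3)), Function.Injective f) ∧
      (p = 2 → Nonempty (N ⧸ Cfsg.pPrimeCore p N ≃* Cfsg.semiaffineGroup (GaloisField 2 3)) ∨
               Nonempty (N ⧸ Cfsg.pPrimeCore p N ≃* Cfsg.affineGroup (GaloisField 2 3)))) ∨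
    (n = 5 ∧ p = 2 ∧ Nonempty (N ⧸ Cfsg.pPrimeCore p N ≃* Cfsg.semiaffineGroup (GaloisField 2 5))) := by
  classical
  have hp : p.Prime := Fact.out
  obtain ⟨hQc, hQe⟩ := hQ
  letI : CommGroup Q := { (inferInstance : Group Q) with mul_comm := fun a b => mul_comm' a b }
  have hexp : ∀ v : Additive Q, p • v = 0 := fun v => congrArg Additive.ofMul (Subtype.ext (hQe _ v.toMul.2) : v.toMul ^ p = 1)
  letI : Module (ZMod p) (Additive Q) := AddCommGroup.zmodModule (n := p) (G := Additive Q) hexp
  haveI : Finite (Additive Q) := inferInstanceAs (Finite Q)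
  haveI : Module.Finite (ZMod p) (Additive Q) := Module.Finite.of_finite
  have hfin : finrank (ZMod p) (Additive Q) = n := by
    have h : Nat.card (Additive Q) = p ^ n := hcard
    rw [Module.natCard_eq_pow_finrank (K := ZMod p), Nat.card_zmod] at h
    exact Nat.pow_right_injective hp.two_le h
  -- the automizer
  let cj : N →* MulAut Q := MulAut.conjNormal
  have hQker : Q ≤ cj.ker := fun q hq => MonoidHom.mem_ker.2 (MulEquiv.ext fun v => Subtype.ext (by
    rw [MulAut.conjNormal_apply, MulAut.one_apply, show q * (v : N) = v * q from congrArg Subtype.val (mul_comm' (⟨q, hq⟩ : Q) v),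
      mul_inv_cancel_right]))
  have hpX : ¬ p ∣ Nat.card cj.range := by
    intro h
    rw [← index_ker] at h
    have h1 : p ∣ Nat.card Q := hcard ▸ dvd_pow_self p (by omega)
    exact hp.not_dvd_one (hcop ▸ Nat.dvd_gcd h1 (h.trans (index_dvd_of_le hQker)))
  obtain ⟨hLn, hLc⟩ := CfsgLib.Solvable.pPrimeCore_spec (G := N) (p := p)
  haveI := hLn
  have hLQ : ∀ l ∈ Cfsg.pPrimeCore p N, ∀ q ∈ Q, l * q = q * l := by
    intro l hl q hq
    refine (Subgroup.commute_of_normal_of_disjoint _ _ hLn inferInstance ?_ l q hl hq).eq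
    rw [disjoint_iff]
    refine inf_eq_bot_of_coprime ?_
    rw [hcard]
    exact hLc.pow_right n
  have hLker : Cfsg.pPrimeCore p N ≤ cj.ker := fun l hl => MonoidHom.mem_ker.2 (MulEquiv.ext fun v => Subtype.ext (by
    rw [MulAut.conjNormal_apply, MulAut.one_apply, hLQ l hl v v.2, mul_inv_cancel_right]))
  haveI : Group.IsSolvable cj.range := by
    haveI := hsolv
    exact Group.isSolvable_of_surjective (f := QuotientGroup.lift (Cfsg.pPrimeCore p N) cj.rangeRestrict
      (by rw [MonoidHom.ker_rangeRestrict]; exact hLker))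
      (QuotientGroup.lift_surjective_of_surjective _ _ cj.rangeRestrict_surjective _)
  let toEnd : MulAut Q → Module.End (ZMod p) (Additive Q) :=
    fun e => AddMonoidHom.toZModLinearMap p (MulEquiv.toAdditive e).toAddMonoidHom
  have htoEnd : ∀ (e : MulAut Q) (v : Additive Q), toEnd e v = Additive.ofMul (e v.toMul) := fun e v => rfl
  let ρ : cj.range →* Module.End (ZMod p) (Additive Q) :=
    { toFun := fun g => toEnd g
      map_one' := LinearMap.ext fun v => by rw [htoEnd, OneMemClass.coe_one]; rfl
      map_mul' := fun g h => LinearMap.ext fun v => by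
        rw [Module.End.mul_apply, htoEnd, htoEnd, htoEnd, Subgroup.coe_mul]; rfl }
  have hρapp : ∀ (g : cj.range) (v : Additive Q), ρ g v = Additive.ofMul ((g : MulAut Q) v.toMul) := fun g v => rfl
  have hρ : Function.Injective ρ := fun g h e => Subtype.ext (MulEquiv.ext fun a => by
    have := LinearMap.congr_fun e (Additive.ofMul a)
    rw [hρapp, hρapp] at this
    exact Additive.ofMul.injective this)
  -- transitivity on subspaces
  let tog : Submodule (ZMod p) (Additive Q) → Subgroup N := fun W =>
    ((AddSubgroup.toSubgroup (W.toAddSubgroup : AddSubgroup (Additive Q)) : Subgroup Q)).map Q.subtype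
  have hmem : ∀ W (q : Q), (q : N) ∈ tog W ↔ Additive.ofMul q ∈ W := fun W q => by
    constructor
    · rintro ⟨q', hq', e⟩
      rw [show q' = q from Subtype.ext e] at hq'
      exact hq'
    · exact fun h => ⟨q, h, rfl⟩
  have htogcard : ∀ W, Nat.card (tog W) = Nat.card W := fun W =>
    (card_map_of_injective Q.subtype_injective).trans
      (Nat.card_congr (Equiv.subtypeEquiv Additive.ofMul fun _ => Iff.rfl))
  have htr : ∀ W W' : Submodule (ZMod p) (Additive Q), Nat.card W = Nat.card W' →
      ∃ g : cj.range, W.map (ρ g) = W' := by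
    intro W W' h
    obtain ⟨x, hx⟩ := hfus (tog W) (tog W') (map_subtype_le _) (map_subtype_le _) (by rw [htogcard, htogcard, h])
    refine ⟨cj.rangeRestrict x, ?_⟩
    ext v
    obtain ⟨q, rfl⟩ : ∃ q, Additive.ofMul q = v := ⟨v.toMul, rfl⟩
    rw [← hmem W', hx, Submodule.mem_map]
    constructor
    · rintro ⟨w, hw, hwq⟩
      obtain ⟨u, rfl⟩ : ∃ u, Additive.ofMul u = w := ⟨w.toMul, rfl⟩
      refine ⟨u, (hmem W u).2 hw, ?_⟩
      have e : cj x u = q := Additive.ofMul.injective hwq
      rw [← e, MulAut.conjNormal_apply]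
      rfl
    · rintro ⟨y, ⟨u, hu, rfl⟩, hy⟩
      refine ⟨Additive.ofMul u, hu, congrArg Additive.ofMul (Subtype.ext ?_)⟩
      show ((cj x u : Q) : N) = q
      rw [MulAut.conjNormal_apply]
      exact hy
  obtain ⟨hodd, e, he⟩ := semilinear hpX ρ hρ hfin hn3 htr
  have hdims := dims hpX ρ hρ hfin hn3 hodd e he htr
  -- the translation part
  obtain ⟨Y, hY⟩ := exists_right_complement'_of_coprime hcop
  let v : N → Q := fun x => (hY.equiv x).1
  let y : N → N := fun x => ((hY.equiv x).2 : N)
  have hvy : ∀ x, (v x : N) * y x = x := fun x => hY.equiv_fst_mul_equiv_snd x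
  have hyY : ∀ x, y x ∈ Y := fun x => (hY.equiv x).2.2
  have huniq : ∀ (q : Q) (z : N), z ∈ Y → v ((q : N) * z) = q := fun q z hz => by
    have h : hY.equiv ((q : N) * z) = (q, ⟨z, hz⟩) := by
      apply hY.equiv.symm.injective
      rw [Equiv.symm_apply_apply]
      rfl
    exact congrArg Prod.fst h
  have hcy : ∀ x, cj x = cj (y x) := fun x => by
    conv_lhs => rw [← hvy x]
    rw [map_mul, MonoidHom.mem_ker.1 (hQker (v x).2), one_mul]
  have hv : ∀ x z, v (x * z) = v x * cj x (v z) := fun x z => by
    have e1 : x * z = ((v x * cj x (v z) : Q) : N) * (y x * y z) := by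
      rw [Subgroup.coe_mul, hcy, MulAut.conjNormal_apply]
      conv_lhs => rw [← hvy x, ← hvy z]
      group
    rw [e1, huniq _ _ (mul_mem (hyY x) (hyY z))]
  have hv1 : v 1 = 1 := by
    have h := hv 1 1
    rw [one_mul, map_one, MulAut.one_apply] at h
    exact left_eq_mul.1 h
  -- the homomorphism into the semiaffine group
  let lin : cj.range → (GaloisField p n ≃+ GaloisField p n) := fun g =>
    (e.trans (AddEquiv.mk' (Equiv.ofBijective (ρ g) ⟨apply_injective ρ g,
      fun w => ⟨ρ g⁻¹ w, by rw [← Module.End.mul_apply, ← map_mul, mul_inv_cancel, map_one]; rfl⟩⟩)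
      (map_add (ρ g)))).trans e.symm
  have hlin : ∀ g k, lin g k = e.symm (ρ g (e k)) := fun g k => rfl
  let perm : N → Equiv.Perm (GaloisField p n) := fun x =>
    (lin (cj.rangeRestrict x)).toEquiv.trans (Equiv.addRight (e.symm (Additive.ofMul (v x))))
  have hperm : ∀ x k, perm x k = e.symm (ρ (cj.rangeRestrict x) (e k) + Additive.ofMul (v x)) := fun x k => by
    rw [map_add]; rfl
  let f : N →* Equiv.Perm (GaloisField p n) :=
    { toFun := perm
      map_one' := Equiv.ext fun k => by
        rw [hperm, hv1, map_one, map_one, Module.End.one_apply, ofMul_one, add_zero, AddEquiv.symm_apply_apply]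
        rfl
      map_mul' := fun x z => Equiv.ext fun k => by
        rw [Equiv.Perm.mul_apply, hperm, hperm, hperm, AddEquiv.apply_symm_apply, map_mul, map_mul,
          Module.End.mul_apply, hv, ofMul_mul, (ρ (cj.rangeRestrict x)).map_add,
          hρapp (cj.rangeRestrict x) (Additive.ofMul (v z))]
        congr 1
        show _ + (Additive.ofMul (v x) + Additive.ofMul (cj x (v z))) = _ + Additive.ofMul (cj x (v z)) + _
        abel }
  have hsemi : ∀ x, f x ∈ Cfsg.semiaffineGroup (GaloisField p n) := fun x => by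
    obtain ⟨c, σ, hc, h⟩ := he (cj.rangeRestrict x)
    exact ⟨Units.mk0 c hc, e.symm (Additive.ofMul (v x)), σ, fun k => by
      show perm x k = _
      rw [hperm, map_add, h, AddEquiv.symm_apply_apply, Units.val_mk0]⟩
  let fS : N →* Cfsg.semiaffineGroup (GaloisField p n) := f.codRestrict _ hsemi
  have hfker : ∀ x, x ∈ fS.ker ↔ v x = 1 ∧ cj x = 1 := fun x => by
    constructor
    · intro hx
      have hx' : perm x = 1 := congrArg Subtype.val (MonoidHom.mem_ker.1 hx)
      have h0 := congrArg (fun τ => τ 0) hx'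
      simp only [hperm, map_zero, zero_add, Equiv.Perm.one_apply] at h0
      have hv0 : v x = 1 := Additive.ofMul.injective (by simpa using congrArg e h0)
      refine ⟨hv0, congrArg Subtype.val (hρ (LinearMap.ext fun w => ?_) : cj.rangeRestrict x = 1)⟩
      obtain ⟨k, rfl⟩ := e.surjective w
      have hk := congrArg (fun τ => e (τ k)) hx'
      simp only [hperm, hv0, ofMul_one, add_zero, AddEquiv.apply_symm_apply, Equiv.Perm.one_apply] at hk
      rw [hk, map_one, Module.End.one_apply]
    · rintro ⟨h1, h2⟩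
      refine MonoidHom.mem_ker.2 (Subtype.ext (Equiv.ext fun k => ?_))
      show perm x k = k
      rw [hperm, h1, show cj.rangeRestrict x = 1 from Subtype.ext h2, map_one, Module.End.one_apply, ofMul_one,
        add_zero, AddEquiv.symm_apply_apply]
  have hker : fS.ker = Cfsg.pPrimeCore p N := by
    refine le_antisymm (CfsgLib.Solvable.le_pPrimeCore p inferInstance ?_) fun l hl => (hfker l).2 ⟨?_, ?_⟩
    · have hle : fS.ker ≤ Y := fun x hx => by
        have h := hvy x
        rw [((hfker x).1 hx).1, OneMemClass.coe_one, one_mul] at h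
        exact h ▸ hyY x
      refine Nat.Coprime.coprime_dvd_left (card_dvd_of_le hle) ?_
      rw [← hY.symm.index_eq_card]
      refine hcop.symm.coprime_dvd_right ?_
      rw [hcard]; exact dvd_pow_self p (by omega)
    · obtain ⟨a, ha⟩ : ∃ a, a = Nat.card Y := ⟨_, rfl⟩
      have hy := hvy l
      have hcomm : Commute (v l : N) (y l) := by
        have hyv : y l = (v l : N)⁻¹ * l := eq_inv_mul_iff_mul_eq.2 hy
        rw [hyv]
        exact ((Commute.refl _).inv_right).mul_right (hLQ l hl _ (v l).2).symm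
      have h1 : ((v l : N)) ^ a = l ^ a := by
        have hya : y l ^ a = 1 := by
          rw [ha]
          exact orderOf_dvd_iff_pow_eq_one.1 (Subgroup.orderOf_dvd_natCard Y (hyY l))
        conv_rhs => rw [← hy, hcomm.mul_pow, hya, mul_one]
      have h2 : (v l : N) ^ a ^ 1 = (v l : N) ^ a := by rw [pow_one]
      have h3 : (l ^ a) ^ p ^ n = 1 := by
        rw [← h1, ← pow_mul, mul_comm, pow_mul, ← hcard,
          orderOf_dvd_iff_pow_eq_one.1 (Subgroup.orderOf_dvd_natCard Q (v l).2), one_pow]
      have h4 : orderOf (l ^ a) ∣ Nat.gcd (Nat.card (Cfsg.pPrimeCore p N)) (p ^ n) :=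
        Nat.dvd_gcd (Subgroup.orderOf_dvd_natCard _ (pow_mem hl a)) (orderOf_dvd_of_pow_eq_one h3)
      rw [(hLc.pow_right n : Nat.Coprime _ _), Nat.dvd_one, orderOf_eq_one_iff] at h4
      have h5 : orderOf (v l : N) ∣ Nat.gcd (Nat.card Q) a :=
        Nat.dvd_gcd (Subgroup.orderOf_dvd_natCard Q (v l).2) (orderOf_dvd_of_pow_eq_one (h1.trans h4))
      rw [show Nat.gcd (Nat.card Q) a = 1 by rw [ha, ← hY.symm.index_eq_card]; exact hcop, Nat.dvd_one,
        orderOf_eq_one_iff] at h5
      exact Subtype.ext h5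
    · exact MonoidHom.mem_ker.1 (hLker hl)
  -- the order of the quotient
  let pr : N ⧸ fS.ker → Q × cj.range := Quotient.lift (fun x => (v x, cj.rangeRestrict x)) fun a b hab => by
    have h := QuotientGroup.leftRel_apply.1 hab
    obtain ⟨h1, h2⟩ := (hfker _).1 h
    have eb : b = a * (a⁻¹ * b) := (mul_inv_cancel_left a b).symm
    refine Prod.ext ?_ (Subtype.ext ?_)
    · show v a = v b
      rw [eb, hv, h1, map_one, mul_one]
    · show cj a = cj b
      rw [eb, map_mul, h2, mul_one]
  have hpr : Function.Bijective pr := by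
    constructor
    · intro A B
      induction A using QuotientGroup.induction_on with | _ a => ?_
      induction B using QuotientGroup.induction_on with | _ b => ?_
      intro h
      change (v a, cj.rangeRestrict a) = (v b, cj.rangeRestrict b) at h
      simp only [Prod.mk.injEq] at h
      have h2 : cj a = cj b := congrArg Subtype.val h.2
      refine QuotientGroup.eq.2 ((hfker _).2 ⟨?_, ?_⟩)
      · have h3 := hv a (a⁻¹ * b)
        rw [mul_inv_cancel_left, ← h.1] at h3
        exact (map_eq_one_iff (cj a) (cj a).injective).1 (left_eq_mul.1 h3)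
      · rw [map_mul, map_inv, h2, inv_mul_cancel]
    · rintro ⟨q, g, x, rfl⟩
      refine ⟨QuotientGroup.mk ((q : N) * y x), ?_⟩
      show (v _, cj.rangeRestrict _) = _
      refine Prod.ext (huniq q _ (hyY x)) (Subtype.ext ?_)
      show cj ((q : N) * y x) = cj x
      rw [map_mul, MonoidHom.mem_ker.1 (hQker q.2), one_mul, ← hcy]
  have hquot : Nat.card (N ⧸ Cfsg.pPrimeCore p N) = p ^ n * Nat.card cj.range := by
    rw [← hker, Nat.card_eq_of_bijective pr hpr, Nat.card_prod, hcard]
  let φ : N ⧸ Cfsg.pPrimeCore p N →* Cfsg.semiaffineGroup (GaloisField p n) :=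
    QuotientGroup.lift _ fS hker.ge
  have hφ : Function.Injective φ := by
    rw [injective_iff_map_eq_one]
    intro A
    induction A using QuotientGroup.induction_on with | _ a => ?_
    intro ha
    exact (QuotientGroup.eq_one_iff a).2 (hker ▸ MonoidHom.mem_ker.2 ha)
  haveI := finite_field (p := p) (n := n) (by omega)
  rcases hdims with ⟨rfl, h23⟩ | ⟨rfl, rfl, h155⟩
  · refine Or.inl ⟨rfl, ⟨φ, hφ⟩, ?_⟩
    rintro rfl
    rcases h23 rfl with h | h
    · refine Or.inl ⟨MulEquiv.ofBijective φ ((Nat.bijective_iff_injective_and_card φ).2 ⟨hφ, ?_⟩)⟩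
      refine le_antisymm (Nat.card_le_card_of_injective φ hφ) ?_
      rw [hquot, h]
      exact (card_semiaffine_le (by norm_num)).trans (by norm_num)
    · right
      -- the field automorphisms are trivial
      haveI := finite_ringAut (p := 2) (n := 3) (by norm_num)
      choose c σ hc hcσ using he
      have hone : ∀ g, e (c g) = ρ g (e 1) := fun g => by rw [hcσ, map_one, mul_one]
      have hσmul : ∀ g g', σ (g * g') = (σ g').trans (σ g) := fun g g' => by
        have hk : ∀ k, c (g * g') * σ (g * g') k = c g * (σ g (c g') * σ g (σ g' k)) := fun k => e.injective (by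
          rw [← hcσ, map_mul ρ, Module.End.mul_apply, hcσ, hcσ, map_mul (σ g)])
        refine RingEquiv.ext fun k => ?_
        have h1 := hk 1
        rw [map_one, map_one, map_one, mul_one, mul_one] at h1
        have h2 := hk k
        rw [h1, mul_assoc, mul_right_inj' (hc g), mul_right_inj' ((map_ne_zero (σ g)).2 (hc g'))] at h2
        exact h2
      let τ : cj.range →* (GaloisField 2 3 ≃+* GaloisField 2 3) :=
        MonoidHom.mk' σ fun g g' => hσmul g g'
      have hσ1 : ∀ g, σ g = 1 := fun g => by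
        have h1 : orderOf (τ g) ∣ 7 := h ▸ (orderOf_map_dvd τ g).trans (orderOf_dvd_natCard g)
        have h2 : orderOf (τ g) ≤ 3 :=
          (Nat.le_of_dvd Nat.card_pos (orderOf_dvd_natCard _)).trans (card_ringAut_le (by norm_num))
        rcases (Nat.dvd_prime (by norm_num : Nat.Prime 7)).1 h1 with h3 | h3
        · exact orderOf_eq_one_iff.1 h3
        · omega
      have hmemA : ∀ A, (φ A : Equiv.Perm (GaloisField 2 3)) ∈ Cfsg.affineGroup (GaloisField 2 3) := fun A => by
        induction A using QuotientGroup.induction_on with | _ a => ?_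
        refine ⟨Units.mk0 _ (hc (cj.rangeRestrict a)), e.symm (Additive.ofMul (v a)), fun k => ?_⟩
        show perm a k = _
        rw [hperm, map_add, hcσ, AddEquiv.symm_apply_apply, Units.val_mk0, hσ1]
        rfl
      let ψ : N ⧸ Cfsg.pPrimeCore 2 N →* Cfsg.affineGroup (GaloisField 2 3) :=
        ((Cfsg.semiaffineGroup (GaloisField 2 3)).subtype.comp φ).codRestrict _ hmemA
      have hψ : Function.Injective ψ := fun A B hAB =>
        hφ (Subtype.ext (show (φ A : Equiv.Perm (GaloisField 2 3)) = φ B from congrArg (fun s : Cfsg.affineGroup (GaloisField 2 3) => (s : Equiv.Perm (GaloisField 2 3))) hAB))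
      refine ⟨MulEquiv.ofBijective ψ ((Nat.bijective_iff_injective_and_card ψ).2 ⟨hψ, ?_⟩)⟩
      refine le_antisymm (Nat.card_le_card_of_injective ψ hψ) ?_
      rw [hquot, h]
      exact (card_affine_le (by norm_num)).trans (by norm_num)
  · refine Or.inr ⟨rfl, rfl, ⟨MulEquiv.ofBijective φ ((Nat.bijective_iff_injective_and_card φ).2 ⟨hφ, ?_⟩)⟩⟩
    refine le_antisymm (Nat.card_le_card_of_injective φ hφ) ?_
    rw [hquot, h155]
    exact (card_semiaffine_le (by norm_num)).trans (by norm_num)

end CfsgLib.ConjP
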