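import Mathlib.Algebra.Module.ZMod
import Mathlib.Algebra.Field.ZMod
import Mathlib.FieldTheory.Finiteness
import Mathlib.GroupTheory.GroupAction.Quotient
import Mathlib.LinearAlgebra.Dimension.Free
import Mathlib.LinearAlgebra.FiniteDimensional.Lemmas

/-!
# Counting lines and planes
-/

set_option autoImplicit false
set_option linter.unusedSectionVars false
set_option linter.style.haveILetI false

namespace CfsgLib.ConjP

open Module

variable {p : ℕ} [Fact p.Prime] {V : Type*} [AddCommGroup V] [Module (ZMod p) V] [Finite V]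

theorem card_eq (W : Submodule (ZMod p) V) : Nat.card W = p ^ finrank (ZMod p) W := by
  rw [Module.natCard_eq_pow_finrank (K := ZMod p), Nat.card_zmod]

theorem card_span {u : V} (hu : u ≠ 0) : Nat.card (Submodule.span (ZMod p) {u}) = p := by
  rw [card_eq, finrank_span_singleton hu, pow_one]

theorem span_eq_of_mem {W : Submodule (ZMod p) V} (hW : Nat.card W = p) {u : V} (hu : u ∈ W) (hu0 : u ≠ 0) :
    Submodule.span (ZMod p) {u} = W := by
  refine Submodule.eq_of_le_of_finrank_eq ((Submodule.span_singleton_le_iff_mem u W).2 hu) ?_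
  have h := card_eq W
  rw [hW] at h
  rw [finrank_span_singleton hu0]
  exact Nat.pow_right_injective (Fact.out : p.Prime).two_le ((pow_one p).trans h)

theorem span_pair_eq_of_mem {W : Submodule (ZMod p) V} (hW : Nat.card W = p ^ 2) {u v : V} (hu : u ∈ W)
    (hv : v ∈ W) (hu0 : u ≠ 0) (hvu : v ∉ Submodule.span (ZMod p) {u}) :
    Submodule.span (ZMod p) {u} ⊔ Submodule.span (ZMod p) {v} = W := by
  have hle : Submodule.span (ZMod p) {u} ⊔ Submodule.span (ZMod p) {v} ≤ W :=
    sup_le ((Submodule.span_singleton_le_iff_mem u W).2 hu) ((Submodule.span_singleton_le_iff_mem v W).2 hv)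
  refine Submodule.eq_of_le_of_finrank_le hle ?_
  have h := card_eq W
  rw [hW] at h
  rw [← Nat.pow_right_injective (Fact.out : p.Prime).two_le h]
  have hlt : Submodule.span (ZMod p) {u} < Submodule.span (ZMod p) {u} ⊔ Submodule.span (ZMod p) {v} :=
    lt_of_le_of_ne le_sup_left fun e => hvu (e.symm ▸ Submodule.mem_sup_right (Submodule.mem_span_singleton_self v))
  have := Submodule.finrank_lt_finrank_of_lt hlt
  rw [finrank_span_singleton hu0] at this
  omega

/-- The pairs of independent vectors inside `W`. -/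
abbrev Pair (W : Submodule (ZMod p) V) : Type _ :=
  {uv : V × V // uv.1 ∈ W ∧ uv.2 ∈ W ∧ uv.1 ≠ 0 ∧ uv.2 ∉ Submodule.span (ZMod p) {uv.1}}

theorem card_ne_zero_mem (W : Submodule (ZMod p) V) :
    Nat.card {u : V // u ∈ W ∧ u ≠ 0} = Nat.card W - 1 := by
  classical
  haveI := Fintype.ofFinite V
  rw [Nat.card_eq_fintype_card, Nat.card_eq_fintype_card, Fintype.card_subtype, Fintype.card_subtype,
    ← Finset.card_erase_of_mem (a := (0 : V)) (Finset.mem_filter.2 ⟨Finset.mem_univ _, W.zero_mem⟩)]
  congr 1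
  ext u
  simp [and_comm]

theorem card_pair (W : Submodule (ZMod p) V) :
    Nat.card (Pair W) = (Nat.card W - 1) * (Nat.card W - p) := by
  classical
  haveI := Fintype.ofFinite V
  let f : Pair W ≃ Σ u : {u : V // u ∈ W ∧ u ≠ 0}, {v : V // v ∈ W ∧ v ∉ Submodule.span (ZMod p) {(u : V)}} :=
    { toFun := fun x => ⟨⟨x.1.1, x.2.1, x.2.2.2.1⟩, ⟨x.1.2, x.2.2.1, x.2.2.2.2⟩⟩
      invFun := fun x => ⟨(x.1.1, x.2.1), x.1.2.1, x.2.2.1, x.1.2.2, x.2.2.2⟩
      left_inv := fun x => rfl
      right_inv := fun x => rfl }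
  haveI : Fintype {u : V // u ∈ W ∧ u ≠ 0} := Fintype.ofFinite _
  rw [Nat.card_congr f, Nat.card_sigma, Finset.sum_congr rfl (g := fun _ => Nat.card W - p) fun u _ => ?_,
    Finset.sum_const, Finset.card_univ, ← Nat.card_eq_fintype_card, card_ne_zero_mem, smul_eq_mul]
  have hle : Submodule.span (ZMod p) {(u : V)} ≤ W := (Submodule.span_singleton_le_iff_mem _ W).2 u.2.1
  refine Eq.trans ?_ (congrArg (Nat.card W - ·) (card_span (p := p) u.2.2))
  rw [Nat.card_eq_fintype_card, Nat.card_eq_fintype_card, Nat.card_eq_fintype_card,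
    Fintype.card_subtype, Fintype.card_subtype, Fintype.card_subtype, ← Finset.card_sdiff_of_subset]
  · congr 1
    ext v
    simp
  · intro v hv
    simp only [Finset.mem_filter, Finset.mem_univ, true_and] at hv ⊢
    exact hle hv

theorem lines_mul :
    Nat.card {W : Submodule (ZMod p) V // Nat.card W = p} * (p - 1) = Nat.card V - 1 := by
  classical
  haveI := Fintype.ofFinite V
  haveI : Fintype {W : Submodule (ZMod p) V // Nat.card W = p} := Fintype.ofFinite _
  let f : (Σ W : {W : Submodule (ZMod p) V // Nat.card W = p}, {u : V // u ∈ W.1 ∧ u ≠ 0}) ≃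
      {u : V // u ∈ (⊤ : Submodule (ZMod p) V) ∧ u ≠ 0} :=
    { toFun := fun x => ⟨x.2.1, trivial, x.2.2.2⟩
      invFun := fun u => ⟨⟨Submodule.span (ZMod p) {u.1}, card_span u.2.2⟩,
        ⟨u.1, Submodule.mem_span_singleton_self _, u.2.2⟩⟩
      left_inv := fun ⟨⟨W, hW⟩, ⟨u, hu, hu0⟩⟩ => by
        obtain rfl := span_eq_of_mem hW hu hu0
        rfl
      right_inv := fun u => rfl }
  have h := Nat.card_congr f
  rw [Nat.card_sigma, Finset.sum_congr rfl (g := fun _ => p - 1) fun W _ => by
      rw [card_ne_zero_mem, W.2], Finset.sum_const, Finset.card_univ, ← Nat.card_eq_fintype_card,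
    smul_eq_mul, card_ne_zero_mem, Nat.card_congr (Submodule.topEquiv (R := ZMod p) (M := V)).toEquiv] at h
  exact h

theorem planes_mul :
    Nat.card {W : Submodule (ZMod p) V // Nat.card W = p ^ 2} * ((p ^ 2 - 1) * (p ^ 2 - p)) =
      (Nat.card V - 1) * (Nat.card V - p) := by
  classical
  haveI := Fintype.ofFinite V
  haveI : Fintype {W : Submodule (ZMod p) V // Nat.card W = p ^ 2} := Fintype.ofFinite _
  have hsp : ∀ x : Pair (⊤ : Submodule (ZMod p) V),
      Nat.card ↥(Submodule.span (ZMod p) {x.1.1} ⊔ Submodule.span (ZMod p) {x.1.2}) = p ^ 2 := fun x => by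
    rw [card_eq]
    congr 1
    have hd : Submodule.span (ZMod p) {x.1.1} ⊓ Submodule.span (ZMod p) {x.1.2} = ⊥ := by
      rw [Submodule.eq_bot_iff]
      rintro w ⟨hw1, hw2⟩
      obtain ⟨c, rfl⟩ := Submodule.mem_span_singleton.1 hw2
      by_contra hc
      exact x.2.2.2.2 ((Submodule.smul_mem_iff _ fun hc0 => hc (by rw [hc0, zero_smul])).1 hw1)
    have hv0 : x.1.2 ≠ 0 := fun h => x.2.2.2.2 (by rw [h]; exact Submodule.zero_mem _)
    have h := Submodule.finrank_sup_add_finrank_inf_eq (Submodule.span (ZMod p) {x.1.1})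
      (Submodule.span (ZMod p) {x.1.2})
    rw [hd, finrank_bot, finrank_span_singleton x.2.2.2.1, finrank_span_singleton hv0, add_zero] at h
    exact h
  let f : (Σ W : {W : Submodule (ZMod p) V // Nat.card W = p ^ 2}, Pair W.1) ≃
      Pair (⊤ : Submodule (ZMod p) V) :=
    { toFun := fun x => ⟨x.2.1, trivial, trivial, x.2.2.2.2⟩
      invFun := fun x => ⟨⟨_, hsp x⟩, ⟨x.1, Submodule.mem_sup_left (Submodule.mem_span_singleton_self _),
        Submodule.mem_sup_right (Submodule.mem_span_singleton_self _), x.2.2.2⟩⟩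
      left_inv := fun ⟨⟨W, hW⟩, ⟨⟨u, v⟩, hu, hv, h3, h4⟩⟩ => by
        obtain rfl := span_pair_eq_of_mem hW hu hv h3 h4
        rfl
      right_inv := fun x => rfl }
  have h := Nat.card_congr f
  rw [Nat.card_sigma, Finset.sum_congr rfl (g := fun _ => (p ^ 2 - 1) * (p ^ 2 - p)) fun W _ => by
      rw [card_pair, W.2], Finset.sum_const, Finset.card_univ, ← Nat.card_eq_fintype_card,
    smul_eq_mul, card_pair, Nat.card_congr (Submodule.topEquiv (R := ZMod p) (M := V)).toEquiv] at h
  exact h

/-- The number of `p ^ k`-element subspaces divides the order of a group permuting them transitively,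
and is a proper divisor if the stabiliser of one of them is nontrivial. -/
theorem orbit_dvd {X : Type*} [Group X] [Finite X] (ρ : X →* Module.End (ZMod p) V) {c : ℕ}
    (W₀ : Submodule (ZMod p) V) (hW₀ : Nat.card W₀ = c)
    (htr : ∀ W W' : Submodule (ZMod p) V, Nat.card W = Nat.card W' → ∃ g, W.map (ρ g) = W') :
    ∃ S : Subgroup X, Nat.card {W : Submodule (ZMod p) V // Nat.card W = c} = S.index ∧
      ∀ g, g ∈ S ↔ W₀.map (ρ g) = W₀ := by
  letI : MulAction X (Submodule (ZMod p) V) :=
    { smul := fun g W => W.map (ρ g)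
      one_smul := fun W => by
        show W.map (ρ 1) = W
        rw [map_one, Module.End.one_eq_id, Submodule.map_id]
      mul_smul := fun g h W => by
        show W.map (ρ (g * h)) = (W.map (ρ h)).map (ρ g)
        rw [map_mul, Module.End.mul_eq_comp, Submodule.map_comp] }
  have hinj : ∀ g, Function.Injective (ρ g) := fun g a b e => by
    have h := congrArg (ρ g⁻¹) e
    rwa [← Module.End.mul_apply, ← Module.End.mul_apply, ← map_mul, inv_mul_cancel, map_one,
      Module.End.one_apply, Module.End.one_apply] at h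
  refine ⟨MulAction.stabilizer X W₀, ?_, fun g => Iff.rfl⟩
  rw [MulAction.index_stabilizer, ← Nat.card_coe_set_eq]
  refine Nat.card_congr (Equiv.subtypeEquivRight fun W => ⟨fun h => ?_, ?_⟩)
  · obtain ⟨g, hg⟩ := htr W₀ W (hW₀.trans h.symm)
    exact ⟨g, hg⟩
  · rintro ⟨g, rfl⟩
    show Nat.card ↥(W₀.map (ρ g)) = c
    rw [← Nat.card_congr (Submodule.equivMapOfInjective (ρ g) (hinj g) W₀).toEquiv, hW₀]

end CfsgLib.ConjP
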