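import Cfsg.Agent.FGSB.ConjP.Centralise
import Cfsg.Agent.FGSB.ConjP.Counting
import Cfsg.Agent.GLElem.Singer
import Cfsg.Agent.S3430
import Cfsg.Agent.Solvable.Fitting

/-!
# Solvable `p'`-groups transitive on the subspaces of each dimension are semilinear
-/

set_option autoImplicit false
set_option linter.unusedSectionVars false
set_option linter.style.haveILetI false

namespace CfsgLib.ConjP

open Subgroup Module

theorem exists_ppd {p m : ℕ} [hp : Fact p.Prime] (hm : 3 ≤ m) (hodd : Odd m) :
    ∃ r : ℕ, r.Prime ∧ p ≠ r ∧ 2 * m + 1 ≤ r ∧ orderOf (p : ZMod r) = m ∧ ∀ s, r ≠ 2 ^ s + 1 := by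
  obtain ⟨r, hr, hd, hprim, -⟩ := Cfsg.Agent.S3430.result p m hp.out.two_le (by omega)
    (by rintro ⟨h, -⟩; omega) (by rintro ⟨-, rfl | rfl | rfl | rfl | rfl⟩ <;> revert hodd <;> decide)
    (by rintro ⟨-, rfl | rfl⟩ <;> revert hodd <;> decide) (by rintro ⟨-, rfl⟩; revert hodd; decide)
  haveI := Fact.mk hr
  have hc : ∀ i, ((p : ZMod r) ^ i = 1 ↔ r ∣ p ^ i - 1) := fun i => by
    rw [← ZMod.natCast_eq_zero_iff, Nat.cast_sub (Nat.one_le_pow _ _ hp.out.pos), sub_eq_zero,
      Nat.cast_pow, Nat.cast_one]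
  have ho : orderOf (p : ZMod r) = m :=
    (orderOf_eq_iff (by omega)).2 ⟨(hc m).2 hd, fun i hi hi0 he => hprim i hi0 hi ((hc i).1 he)⟩
  have hne : (p : ZMod r) ≠ 0 := fun h => by
    have h1 := (hc m).2 hd
    rw [h, zero_pow (by omega)] at h1
    exact zero_ne_one h1
  have hpr : p ≠ r := fun h => hne (by rw [h, ZMod.natCast_self])
  have hdvd : m ∣ r - 1 := ho ▸ ZMod.orderOf_dvd_card_sub_one hne
  have hr2 : r ≠ 2 := by
    rintro rfl
    have := Nat.le_of_dvd (by norm_num) hdvd
    omega
  obtain ⟨k, hk⟩ := hdvd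
  have hro := hr.odd_of_ne_two hr2
  have hk2 : 2 ≤ k := by
    rcases k with _ | _ | k
    · have := hr.two_le; omega
    · exfalso
      obtain ⟨a, ha⟩ := hro
      obtain ⟨b, hb⟩ := hodd
      omega
    · omega
  refine ⟨r, hr, hpr, ?_, ho, fun s hs => ?_⟩
  · have := Nat.mul_le_mul_left m hk2
    have := hr.two_le
    omega
  · have h1 : m ∣ 2 ^ s := ⟨k, by rw [← hk, hs, Nat.add_sub_cancel]⟩
    have h2 : m ∣ 1 := ((Nat.Coprime.pow_right s (Nat.coprime_two_right.2 hodd))).eq_one_of_dvd h1 ▸ dvd_rfl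
    have := Nat.le_of_dvd one_pos h2
    omega

variable {p : ℕ} [hp : Fact p.Prime] {V : Type*} [AddCommGroup V] [Module (ZMod p) V] [Finite V]
  {X : Type*} [Group X] [Finite X]

theorem apply_injective (ρ : X →* Module.End (ZMod p) V) (g : X) : Function.Injective (ρ g) := fun a b e => by
  have h := congrArg (ρ g⁻¹) e
  rwa [← Module.End.mul_apply, ← Module.End.mul_apply, ← map_mul, inv_mul_cancel, map_one,
    Module.End.one_apply, Module.End.one_apply] at h

/-- The semilinear structure: `n` is odd and the group consists of maps `k ↦ c σ(k)` of a field with `pⁿ` elements. -/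
theorem semilinear [Group.IsSolvable X] (hpX : ¬ p ∣ Nat.card X) (ρ : X →* Module.End (ZMod p) V)
    (hρ : Function.Injective ρ) {n : ℕ} (hn : finrank (ZMod p) V = n) (hn3 : 3 ≤ n)
    (htr : ∀ W W' : Submodule (ZMod p) V, Nat.card W = Nat.card W' → ∃ g, W.map (ρ g) = W') :
    Odd n ∧ ∃ e : GaloisField p n ≃+ V, ∀ g, ∃ c : GaloisField p n, ∃ σ : GaloisField p n ≃+* GaloisField p n,
      c ≠ 0 ∧ ∀ k, ρ g (e k) = e (c * σ k) := by
  classical
  obtain ⟨m, hm3, hmodd, hmn, hnm⟩ : ∃ m, 3 ≤ m ∧ Odd m ∧ m ≤ n ∧ n ≤ m + 1 := by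
    rcases Nat.even_or_odd n with he | ho
    · obtain ⟨a, ha⟩ := he
      exact ⟨n - 1, by omega, ⟨a - 1, by omega⟩, by omega, by omega⟩
    · exact ⟨n, hn3, ho, le_rfl, by omega⟩
  obtain ⟨r, hr, hpr, hrm, hord, hFer⟩ := exists_ppd (p := p) hm3 hmodd
  haveI := Fact.mk hr
  haveI : Nontrivial V := Module.nontrivial_of_finrank_pos (R := ZMod p) (by omega)
  have hcardV : Nat.card V = p ^ n := by
    rw [Module.natCard_eq_pow_finrank (K := ZMod p), Nat.card_zmod, hn]
  have hrp : ¬ r ∣ p := fun h => hpr ((Nat.prime_dvd_prime_iff_eq hr hp.out).1 h).symm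
  have hrF : (r : ZMod p) ≠ 0 := fun h =>
    hpr ((Nat.prime_dvd_prime_iff_eq hp.out hr).1 ((ZMod.natCast_eq_zero_iff r p).1 h))
  have hpow1 : ∀ i, r ∣ p ^ i - 1 ↔ m ∣ i := fun i => by
    rw [← hord, orderOf_dvd_iff_pow_eq_one, ← ZMod.natCast_eq_zero_iff,
      Nat.cast_sub (Nat.one_le_pow _ _ hp.out.pos), sub_eq_zero, Nat.cast_pow, Nat.cast_one]
  -- `r` divides the order of the group
  have hrX : r ∣ Nat.card X := by
    have hdvdP : r ∣ (Nat.card V - 1) * (Nat.card V - p) := by
      rw [hcardV]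
      rcases (show m = n ∨ m + 1 = n by omega) with h | h
      · exact Dvd.dvd.mul_right ((hpow1 n).2 (dvd_of_eq h)) _
      · refine Dvd.dvd.mul_left ?_ _
        rw [← h, show p ^ (m + 1) - p = p * (p ^ m - 1) by rw [Nat.mul_sub, mul_one, ← pow_succ']]
        exact Dvd.dvd.mul_left ((hpow1 m).2 dvd_rfl) _
    rw [← planes_mul] at hdvdP
    obtain ⟨W₀, hW₀⟩ : ∃ W : Submodule (ZMod p) V, Nat.card W = p ^ 2 := by
      by_contra hno
      push Not at hno
      haveI : IsEmpty {W : Submodule (ZMod p) V // Nat.card W = p ^ 2} := ⟨fun W => hno _ W.2⟩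
      have h := planes_mul (p := p) (V := V)
      rw [Nat.card_of_isEmpty, zero_mul, hcardV] at h
      have h1 : p ^ 1 < p ^ n := Nat.pow_lt_pow_right hp.out.one_lt (by omega)
      rw [pow_one] at h1
      rcases mul_eq_zero.1 h.symm with h2 | h2
      · have := hp.out.two_le; omega
      · omega
    obtain ⟨S, hS, -⟩ := orbit_dvd ρ W₀ hW₀ htr
    rcases hr.dvd_mul.1 hdvdP with h | h
    · exact (hS ▸ h).trans (index_dvd_card S)
    · exfalso
      rcases hr.dvd_mul.1 h with h | h
      · have := Nat.le_of_dvd two_pos ((hpow1 2).1 h)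
        omega
      · rw [show p ^ 2 - p = p * (p ^ 1 - 1) by rw [Nat.mul_sub, mul_one, pow_one, pow_two]] at h
        rcases hr.dvd_mul.1 h with h | h
        · exact hrp h
        · have := Nat.le_of_dvd one_pos ((hpow1 1).1 h)
          omega
  -- an element of order `r` centralising the Fitting subgroup
  obtain ⟨R⟩ := (inferInstance : Nonempty (Sylow r X))
  haveI : Nontrivial (R : Subgroup X) := (nontrivial_iff_ne_bot _).2 (R.ne_bot_of_dvd_card hrX)
  obtain ⟨x, hx⟩ : ∃ x : center (R : Subgroup X), orderOf x = r := by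
    haveI := R.2.center_nontrivial
    obtain ⟨k, hk0, hk⟩ := (R.2.to_subgroup (center (R : Subgroup X))).nontrivial_iff_card.1 inferInstance
    exact exists_prime_orderOf_dvd_card' r (hk ▸ dvd_pow_self r hk0.ne')
  have hxo : orderOf ((x : (R : Subgroup X)) : X) = r := by rw [Subgroup.orderOf_coe, Subgroup.orderOf_coe, hx]
  have hxc : ∀ y ∈ (R : Subgroup X), y * ((x : (R : Subgroup X)) : X) = ((x : (R : Subgroup X)) : X) * y :=
    fun y hy => congrArg Subtype.val (mem_center_iff.1 x.2 ⟨y, hy⟩)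
  generalize hxdef : ((x : (R : Subgroup X)) : X) = a at hxo hxc
  have har : a ^ r = 1 := hxo ▸ pow_orderOf_eq_one a
  have hcore : ∀ q : Nat.Primes, Cfsg.pCore (q : ℕ) X ≤ centralizer ({a} : Set X) := by
    rintro ⟨q, hq⟩ u hu
    change u ∈ Cfsg.pCore q X at hu
    haveI := Fact.mk hq
    rw [mem_centralizer_singleton_iff]
    rcases eq_or_ne q r with rfl | hqr
    · exact hxc u (CfsgLib.Fitting.pCore_le_sylow R hu)
    rcases eq_or_ne p q with rfl | hpq
    · obtain ⟨k, hk⟩ := IsPGroup.iff_card.1 (CfsgLib.Solvable.isPGroup_pCore (G := X) p)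
      rcases Nat.eq_zero_or_pos k with rfl | hk0
      · rw [pow_zero] at hk
        rw [eq_bot_of_card_eq _ hk, mem_bot] at hu
        rw [hu, one_mul, mul_one]
      · exact absurd ((hk ▸ dvd_pow_self p hk0.ne').trans (card_subgroup_dvd_card _)) hpX
    exact (commute_of_large hq hr hpq hpr hqr (fun _ => hFer) (by rw [hn]; omega) ρ hρ har (Cfsg.pCore q X)
      (CfsgLib.Solvable.isPGroup_pCore q)
      (by
        haveI := (CfsgLib.Solvable.pCore_spec (G := X) (p := q)).1
        rw [normalizer_eq_top]; exact mem_top a) u hu).symm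
  set F := Cfsg.fittingSubgroup X with hFdef
  have haC : a ∈ centralizer (F : Set X) := by
    have hle : F ≤ centralizer ({a} : Set X) := by
      rw [hFdef, CfsgLib.Solvable.fittingSubgroup_eq_iSup_pCore]; exact iSup_le hcore
    exact mem_centralizer_iff.2 fun u hu => mem_centralizer_singleton_iff.1 (hle hu)
  have hCF : centralizer (F : Set X) ≤ F := CfsgLib.Fitting.centralizer_fittingSubgroup_le_of_solvable
  haveI hFn : F.Normal := by
    haveI : ∀ q : Nat.Primes, (Cfsg.pCore (q : ℕ) X).Normal := fun q => (CfsgLib.Solvable.pCore_spec (G := X) (q : ℕ)).1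
    rw [hFdef, CfsgLib.Solvable.fittingSubgroup_eq_iSup_pCore]
    infer_instance
  let A : Subgroup X :=
    { carrier := {z | z ∈ centralizer (F : Set X) ∧ z ^ r = 1}
      one_mem' := ⟨one_mem _, one_pow r⟩
      mul_mem' := fun {u v} hu hv => ⟨mul_mem hu.1 hv.1, by
        rw [Commute.mul_pow (mem_centralizer_iff.1 hv.1 u (hCF hu.1)), hu.2, hv.2, one_mul]⟩
      inv_mem' := fun {u} hu => ⟨inv_mem hu.1, by rw [inv_pow, hu.2, inv_one]⟩ }
  have haA : a ∈ A := ⟨haC, har⟩
  have hAn : ∀ (g : X), ∀ z ∈ A, g * z * g⁻¹ ∈ A := fun g z hz =>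
    ⟨(inferInstance : (centralizer (F : Set X)).Normal).conj_mem z hz.1 g, by rw [conj_pow, hz.2, mul_one, mul_inv_cancel]⟩
  have hAc : ∀ u ∈ A, ∀ v ∈ A, u * v = v * u := fun u hu v hv => mem_centralizer_iff.1 hv.1 u (hCF hu.1)
  have hT : ∀ z ∈ A, ρ z ^ r = 1 := fun z hz => by rw [← map_pow, hz.2, map_one]
  have ha1 : ρ a ≠ 1 := fun h => by
    rw [hρ (h.trans (map_one ρ).symm), orderOf_one] at hxo
    exact hr.ne_one hxo.symm
  have hapow : ∀ i, (ρ a) ^ i = 1 → r ∣ i := fun i hi => by
    rw [← map_pow] at hi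
    exact hxo ▸ orderOf_dvd_of_pow_eq_one (hρ (hi.trans (map_one ρ).symm))
  rcases (show m = n ∨ m + 1 = n by omega) with hmn' | hmn'
  · -- the odd case: a Singer cycle
    subst hmn'
    refine ⟨hmodd, ?_⟩
    have hirr : CfsgLib.GLElem.Irred (ρ a) :=
      CfsgLib.GLElem.irred_of_primitive (Nat.card_zmod p) hr hrF hrp hord hn (hT a haA) ha1
    obtain ⟨v₀, hv₀⟩ := exists_ne (0 : V)
    let K := Algebra.adjoin (ZMod p) ({ρ a} : Set (Module.End (ZMod p) V))
    have hbij := CfsgLib.GLElem.evalAt_bijective hirr hv₀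
    haveI : Finite K := Finite.of_injective _ hbij.1
    letI : Field K := (CfsgLib.GLElem.isField_adjoin hirr).toField
    have hKcard : Nat.card K = p ^ m := (Nat.card_eq_of_bijective _ hbij).trans hcardV
    have hcent : ∀ T : Module.End (ZMod p) V, Commute T (ρ a) → T ∈ K := fun T hTc => by
      obtain ⟨k, hk⟩ := hbij.2 (T v₀)
      have hall : T = (k : Module.End (ZMod p) V) := LinearMap.ext fun w => by
        obtain ⟨l, rfl⟩ := hbij.2 w
        have hl : Commute T (l : Module.End (ZMod p) V) :=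
          Algebra.commute_of_mem_adjoin_singleton_of_commute l.2 hTc
        have hkl : ((k : Module.End (ZMod p) V) * l) = (l : Module.End (ZMod p) V) * k :=
          congrArg Subtype.val (mul_comm k l)
        show T ((l : Module.End (ZMod p) V) v₀) = (k : Module.End (ZMod p) V) ((l : Module.End (ZMod p) V) v₀)
        rw [← Module.End.mul_apply, hl.eq, Module.End.mul_apply, ← Module.End.mul_apply (k : Module.End (ZMod p) V),
          hkl, Module.End.mul_apply]
        exact congrArg _ hk.symm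
      exact hall ▸ k.2
    have hTK : ∀ z ∈ A, ρ z ∈ K := fun z hz =>
      hcent _ (by rw [commute_iff_eq, ← map_mul, ← map_mul, hAc z hz a haA])
    have hconj : ∀ (g : X) (k : K), ρ g * (k : Module.End (ZMod p) V) * ρ g⁻¹ ∈ K := by
      intro g k
      refine Algebra.adjoin_induction (p := fun b _ => ρ g * b * ρ g⁻¹ ∈ K) ?_ ?_ ?_ ?_ k.2
      · rintro b rfl
        rw [← map_mul, ← map_mul]
        exact hTK _ (hAn g a haA)
      · intro c
        rw [← Algebra.commutes, mul_assoc, ← map_mul, mul_inv_cancel, map_one, mul_one]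
        exact K.algebraMap_mem c
      · intro b c _ _ hb hc
        rw [mul_add, add_mul]; exact add_mem hb hc
      · intro b c _ _ hb hc
        have e : ρ g * (b * c) * ρ g⁻¹ = ρ g * b * ρ g⁻¹ * (ρ g * c * ρ g⁻¹) := by
          calc ρ g * (b * c) * ρ g⁻¹ = ρ g * b * (ρ g⁻¹ * ρ g) * c * ρ g⁻¹ := by
                rw [← map_mul ρ g⁻¹, inv_mul_cancel, map_one, mul_one]; simp only [mul_assoc]
            _ = _ := by simp only [mul_assoc]
        exact e ▸ mul_mem hb hc
    have hinvm : ∀ g, ρ g⁻¹ * ρ g = 1 := fun g => by rw [← map_mul, inv_mul_cancel, map_one]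
    have hinvm' : ∀ g, ρ g * ρ g⁻¹ = 1 := fun g => by rw [← map_mul, mul_inv_cancel, map_one]
    let σ : X → (K ≃+* K) := fun g =>
      { toFun := fun k => ⟨ρ g * (k : Module.End (ZMod p) V) * ρ g⁻¹, hconj g k⟩
        invFun := fun k => ⟨ρ g⁻¹ * (k : Module.End (ZMod p) V) * ρ g, by
          have := hconj g⁻¹ k; rwa [inv_inv] at this⟩
        left_inv := fun k => Subtype.ext (by
          show ρ g⁻¹ * (ρ g * (k : Module.End (ZMod p) V) * ρ g⁻¹) * ρ g = k
          simp only [mul_assoc, hinvm, mul_one]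
          rw [← mul_assoc, hinvm, one_mul])
        right_inv := fun k => Subtype.ext (by
          show ρ g * (ρ g⁻¹ * (k : Module.End (ZMod p) V) * ρ g) * ρ g⁻¹ = k
          simp only [mul_assoc, hinvm', mul_one]
          rw [← mul_assoc, hinvm', one_mul])
        map_mul' := fun k l => Subtype.ext (by
          show ρ g * ((k : Module.End (ZMod p) V) * l) * ρ g⁻¹ =
            ρ g * (k : Module.End (ZMod p) V) * ρ g⁻¹ * (ρ g * (l : Module.End (ZMod p) V) * ρ g⁻¹)
          simp only [mul_assoc]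
          rw [← mul_assoc (ρ g⁻¹) (ρ g), hinvm, one_mul])
        map_add' := fun k l => Subtype.ext (by
          show ρ g * ((k : Module.End (ZMod p) V) + l) * ρ g⁻¹ = _
          rw [mul_add, add_mul]; rfl) }
    haveI := Fintype.ofFinite K
    haveI : Finite (GaloisField p m) := Nat.finite_of_card_ne_zero (by
      rw [GaloisField.card p _ (by omega)]; exact pow_ne_zero _ hp.out.ne_zero)
    haveI := Fintype.ofFinite (GaloisField p m)
    let ψ : GaloisField p m ≃+* K := FiniteField.ringEquivOfCardEq (by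
      rw [← Nat.card_eq_fintype_card, ← Nat.card_eq_fintype_card, GaloisField.card p _ (by omega), hKcard])
    let ev : K →+ V :=
      { toFun := fun k => (k : Module.End (ZMod p) V) v₀
        map_zero' := rfl
        map_add' := fun k l => rfl }
    refine ⟨ψ.toAddEquiv.trans (AddEquiv.ofBijective ev hbij), fun g => ?_⟩
    obtain ⟨c, hc⟩ := hbij.2 (ρ g v₀)
    refine ⟨ψ.symm c, (ψ.trans (σ g)).trans ψ.symm, fun h => hv₀ ?_, fun k => ?_⟩
    · have hc0 : c = 0 := by simpa using congrArg ψ h
      refine apply_injective ρ g ?_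
      rw [← hc, hc0, map_zero]; rfl
    · show ρ g (((ψ k : K) : Module.End (ZMod p) V) v₀) =
        ((ψ (ψ.symm c * ψ.symm (σ g (ψ k))) : K) : Module.End (ZMod p) V) v₀
      rw [map_mul, RingEquiv.apply_symm_apply, RingEquiv.apply_symm_apply, mul_comm]
      show _ = (ρ g * ((ψ k : K) : Module.End (ZMod p) V) * ρ g⁻¹) ((c : Module.End (ZMod p) V) v₀)
      rw [show (c : Module.End (ZMod p) V) v₀ = ρ g v₀ from hc, Module.End.mul_apply, Module.End.mul_apply,
        ← Module.End.mul_apply (ρ g⁻¹), hinvm, Module.End.one_apply]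
  · -- the even case is impossible
    exfalso
    set L := LinearMap.ker (ρ a - 1) with hLdef
    have hLmem : ∀ v, v ∈ L ↔ ρ a v = v := fun v => by
      rw [hLdef, LinearMap.mem_ker, LinearMap.sub_apply, Module.End.one_apply, sub_eq_zero]
    have hLinv : ∀ z ∈ A, ∀ w ∈ L, ρ z w ∈ L := fun z hz w hw => by
      rw [hLmem, ← Module.End.mul_apply, ← map_mul, hAc a haA z hz, map_mul, Module.End.mul_apply, (hLmem w).1 hw]
    have hL0 : L ≠ ⊥ := fun hL => by
      letI : MulAction (zpowers a) V :=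
        { smul := fun z v => ρ (z : X) v
          one_smul := fun v => by show ρ ((1 : zpowers a) : X) v = v; rw [OneMemClass.coe_one, map_one]; rfl
          mul_smul := fun z w v => by
            show ρ ((z * w : zpowers a) : X) v = ρ (z : X) (ρ (w : X) v)
            rw [Subgroup.coe_mul, map_mul]; rfl }
      have hz : IsPGroup r (zpowers a) := IsPGroup.of_card (n := 1) (by rw [Nat.card_zpowers, hxo, pow_one])
      have h := hz.card_modEq_card_fixedPoints V
      have hf : MulAction.fixedPoints (zpowers a) V = {0} := by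
        ext v
        constructor
        · intro hv
          have := hv ⟨a, mem_zpowers a⟩
          have hmem : v ∈ L := (hLmem v).2 this
          rw [hL, Submodule.mem_bot] at hmem
          exact hmem
        · rintro rfl z
          exact map_zero (ρ (z : X))
      rw [hf, Nat.card_coe_set_eq, Set.ncard_singleton, hcardV] at h
      have h2 : m ∣ n := (hpow1 n).1 ((Nat.modEq_iff_dvd' (Nat.one_le_pow _ _ hp.out.pos)).1 h.symm)
      rw [← hmn', Nat.dvd_add_self_left] at h2
      have := Nat.le_of_dvd one_pos h2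
      omega
    have hLd : finrank (ZMod p) L < m := by
      obtain ⟨U, hU, hUinv⟩ := CfsgLib.GLElem.exists_invariant_isCompl (hT a haA) hrF (hLinv a haA)
      have hd := Submodule.finrank_add_eq_of_isCompl hU
      by_contra hlt
      have hUm : finrank (ZMod p) U < m := by omega
      have hrest : ∀ (k : ℕ) (w : U), ((((ρ a).restrict hUinv) ^ k) w : V) = ((ρ a) ^ k) (w : V) := by
        intro k
        induction k with
        | zero => intro w; simp
        | succ k ih => intro w; rw [pow_succ', pow_succ', Module.End.mul_apply, Module.End.mul_apply, ← ih]; rfl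
      have e := CfsgLib.GLElem.eq_one_of_small (Nat.card_zmod p) hr hrp hord hUm
        (T := (ρ a).restrict hUinv) (LinearMap.ext fun w => Subtype.ext (by rw [hrest, hT a haA]; rfl))
      refine ha1 (LinearMap.ext fun v => ?_)
      obtain ⟨⟨l, u⟩, rfl⟩ := (Submodule.prodEquivOfIsCompl L U hU).surjective v
      have hu : ρ a (u : V) = u := congrArg Subtype.val (LinearMap.congr_fun e u)
      simp [(hLmem _).1 l.2, hu]
    obtain ⟨v₁, hv₁, hv₁0⟩ := Submodule.exists_mem_ne_zero_of_ne_bot hL0
    have hfixA : ∀ z ∈ A, ρ z v₁ = v₁ := fun z hz => by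
      have hrest : ∀ (k : ℕ) (w : L), ((((ρ z).restrict (hLinv z hz)) ^ k) w : V) = ((ρ z) ^ k) (w : V) := by
        intro k
        induction k with
        | zero => intro w; simp
        | succ k ih => intro w; rw [pow_succ', pow_succ', Module.End.mul_apply, Module.End.mul_apply, ← ih]; rfl
      have e := CfsgLib.GLElem.eq_one_of_small (Nat.card_zmod p) hr hrp hord hLd
        (T := (ρ z).restrict (hLinv z hz)) (LinearMap.ext fun w => Subtype.ext (by rw [hrest, hT z hz]; rfl))
      exact congrArg Subtype.val (LinearMap.congr_fun e ⟨v₁, hv₁⟩)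
    refine ha1 (LinearMap.ext fun w => ?_)
    by_cases hw : w = 0
    · rw [hw, map_zero, map_zero]
    obtain ⟨g, hg⟩ := htr (Submodule.span (ZMod p) {v₁}) (Submodule.span (ZMod p) {w})
      (by rw [card_span hv₁0, card_span hw])
    have hwm : w ∈ (Submodule.span (ZMod p) {v₁}).map (ρ g) := hg ▸ Submodule.mem_span_singleton_self w
    obtain ⟨u, hu, rfl⟩ := hwm
    obtain ⟨c, rfl⟩ := Submodule.mem_span_singleton.1 hu
    have hz := hAn g⁻¹ a haA
    rw [inv_inv] at hz
    have hfix := hfixA _ hz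
    rw [Module.End.one_apply, map_smul, map_smul]
    congr 1
    conv_rhs => rw [← hfix]
    rw [← Module.End.mul_apply, ← Module.End.mul_apply, ← map_mul, ← map_mul]
    congr 2
    group

end CfsgLib.ConjP
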