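import Cfsg.Agent.S3765
import Mathlib.Algebra.Module.ZMod
import Mathlib.FieldTheory.Finite.GaloisField
import Mathlib.GroupTheory.SemidirectProduct
import Mathlib.LinearAlgebra.Eigenspace.Basic
import Mathlib.LinearAlgebra.Matrix.ToLin

/-!
# Elements of large prime order centralise the `q`-groups they normalise

If `r` is a prime larger than the dimension and not a Fermat prime, a twist by an `r`-th root of
unity makes an element of order `r` fixed-point-free, and the Hall–Higman lemma applies.
-/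

set_option autoImplicit false
set_option linter.unusedSectionVars false
set_option linter.style.haveILetI false

namespace CfsgLib.ConjP

open Subgroup Module

universe u

theorem exists_root {p r : ℕ} [Fact p.Prime] (hr : r.Prime) (hpr : p ≠ r) :
    ∃ ζ : GaloisField p (r - 1), orderOf ζ = r := by
  have hp : p.Prime := Fact.out
  haveI := Fact.mk hr
  have hr1 : r - 1 ≠ 0 := by have := hr.two_le; omega
  haveI : Finite (GaloisField p (r - 1)) :=
    Nat.finite_of_card_ne_zero (by rw [GaloisField.card p _ hr1]; exact pow_ne_zero _ hp.ne_zero)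
  have hd : r ∣ Nat.card (GaloisField p (r - 1))ˣ := by
    rw [Nat.card_units, GaloisField.card p _ hr1, ← ZMod.natCast_eq_zero_iff,
      Nat.cast_sub (Nat.one_le_pow _ _ hp.pos), Nat.cast_pow, Nat.cast_one, sub_eq_zero]
    refine ZMod.pow_card_sub_one_eq_one fun h => hpr ?_
    exact ((Nat.prime_dvd_prime_iff_eq hr hp).1 ((ZMod.natCast_eq_zero_iff p r).1 h)).symm
  obtain ⟨z, hz⟩ := exists_prime_orderOf_dvd_card' r hd
  exact ⟨z, by rw [orderOf_units, hz]⟩

/-- The Hall–Higman lemma for an automorphism of prime order without fixed points. -/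
theorem commute_of_fpf {p q r : ℕ} (hp : p.Prime) (hq : q.Prime) (hr : r.Prime) (hpq : p ≠ q)
    (hpr : p ≠ r) (hqr : q ≠ r) (hF : q = 2 → ∀ s, r ≠ 2 ^ s + 1) {W : Type u} [CommGroup W] [Finite W]
    [Nontrivial W] (hW : ∀ w : W, w ^ p = 1) (S : MulAut W) (hS : S ^ r = 1) (hfix : ∀ w, S w = w → w = 1)
    (Q : Subgroup (MulAut W)) (hQ : IsPGroup q Q) (hnorm : S ∈ normalizer (Q : Set (MulAut W))) :
    ∀ u ∈ Q, S * u = u * S := by
  classical
  let act : MulAut W →* MulAut W := MonoidHom.id _
  haveI : Finite (MulAut W) := Finite.of_injective (fun e => (e : W → W)) DFunLike.coe_injective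
  haveI : Finite (W ⋊[act] MulAut W) :=
    Finite.of_injective (fun x => (x.left, x.right)) fun x y h =>
      SemidirectProduct.ext (congrArg Prod.fst h) (congrArg Prod.snd h)
  let iR : MulAut W →* W ⋊[act] MulAut W := SemidirectProduct.inr
  let iL : W →* W ⋊[act] MulAut W := SemidirectProduct.inl
  have hS1 : S ≠ 1 := fun h => by
    obtain ⟨w, hw⟩ := exists_ne (1 : W)
    exact hw (hfix w (by rw [h]; rfl))
  have hSo : orderOf S = r := by
    haveI := Fact.mk hr
    exact orderOf_eq_prime hS hS1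
  have hVn : iL.range.Normal := by
    rw [SemidirectProduct.range_inl_eq_ker_rightHom]; infer_instance
  have hcomm : ∀ (e : MulAut W), (∀ w, iR e * iL w = iL w * iR e) → e = 1 := fun e he => by
    refine MulEquiv.ext fun w => ?_
    have h : iL (e w) = iR e * iL w * iR e⁻¹ := SemidirectProduct.inl_aut (φ := act) e w
    rw [map_inv, he, mul_inv_cancel_right] at h
    exact SemidirectProduct.inl_injective h
  by_contra hne
  push Not at hne
  obtain ⟨u, hu, hSu⟩ := hne
  refine Cfsg.Agent.S3765.result hp hq hr hpq hpr hqr ((zpowers S).map iR) (Q.map iR) iL.range ?_ (hQ.map _) ?_ ?_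
    ⟨⟨⟨?_⟩⟩, ?_⟩ ?_ ?_ ?_ ?_ (fun h2 ⟨s, hs⟩ => absurd hs (hF h2 s)) ?_
  · rw [card_map_of_injective SemidirectProduct.inr_injective, Nat.card_zpowers, hSo]
  · exact le_trans (map_mono (zpowers_le.2 hnorm)) (le_normalizer_map iR)
  · rw [eq_bot_iff]
    rintro x ⟨⟨e, he, rfl⟩, hx⟩
    obtain ⟨i, rfl⟩ := he
    by_contra hi
    have hce : S ^ i * u = u * S ^ i := SemidirectProduct.inr_injective (φ := act) (by
      show iR (S ^ i * u) = iR (u * S ^ i)
      rw [map_mul, map_mul]
      exact (mem_centralizer_iff.1 hx (iR u) (mem_map_of_mem _ hu)).symm)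
    haveI := Fact.mk hr
    have hgen : S ∈ zpowers (S ^ i) := by
      by_contra hmem
      apply hi
      have hlt : orderOf (S ^ i) ∣ r := hSo ▸ orderOf_dvd_of_pow_eq_one (by
        rw [← zpow_natCast, ← zpow_mul, mul_comm, zpow_mul, zpow_natCast, pow_orderOf_eq_one, one_zpow])
      rcases (Nat.dvd_prime hr).1 hlt with h | h
      · show iR (S ^ i) ∈ (⊥ : Subgroup (W ⋊[act] MulAut W))
        rw [orderOf_eq_one_iff.1 h, map_one]; exact one_mem _
      · refine absurd ?_ hmem
        have e : zpowers (S ^ i) = zpowers S :=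
          Subgroup.eq_of_le_of_card_ge (zpowers_le.2 ⟨i, rfl⟩) (by rw [Nat.card_zpowers, Nat.card_zpowers, h, hSo])
        rw [e]; exact mem_zpowers S
    obtain ⟨j, hj⟩ := hgen
    refine hSu ?_
    rw [show S = (S ^ i) ^ j from hj.symm]
    exact (Commute.zpow_left hce j).eq
  · rintro ⟨_, a, rfl⟩ ⟨_, b, rfl⟩
    refine Subtype.ext ?_
    show iL a * iL b = iL b * iL a
    rw [← map_mul, ← map_mul, mul_comm]
  · rintro _ ⟨a, rfl⟩
    rw [← map_pow, hW, map_one]
  · intro h
    obtain ⟨w, hw⟩ := exists_ne (1 : W)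
    have h1 : iL w ∈ iL.range := ⟨_, rfl⟩
    rw [h, mem_bot, ← iL.map_one] at h1
    exact hw (SemidirectProduct.inl_injective h1)
  · rw [normalizer_eq_top]; exact le_top
  · rw [normalizer_eq_top]; exact le_top
  · rw [← Subgroup.map_sup, eq_bot_iff]
    rintro x ⟨⟨e, -, rfl⟩, hx⟩
    rw [hcomm e fun w => (mem_centralizer_iff.1 hx (iL w) ⟨w, rfl⟩).symm, map_one]
    exact one_mem _
  · rw [eq_bot_iff]
    rintro x ⟨⟨a, rfl⟩, hx⟩
    have h := mem_centralizer_iff.1 hx (iR S) (mem_map_of_mem _ (mem_zpowers S))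
    have h' : iL (S a) = iR S * iL a * iR S⁻¹ := SemidirectProduct.inl_aut (φ := act) S a
    rw [map_inv, h, mul_inv_cancel_right] at h'
    rw [hfix _ (SemidirectProduct.inl_injective h'), map_one]
    exact one_mem _

/-- An element of prime order `r > dim` (`r` not a Fermat prime) centralises every `q`-subgroup it
normalises, `q` and `r` different from the characteristic. -/
theorem commute_of_large {p q r : ℕ} [Fact p.Prime] (hq : q.Prime) (hr : r.Prime) (hpq : p ≠ q) (hpr : p ≠ r)
    (hqr : q ≠ r) (hF : q = 2 → ∀ s, r ≠ 2 ^ s + 1) {V : Type u} [AddCommGroup V] [Module (ZMod p) V]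
    [Module.Finite (ZMod p) V] [Nontrivial V] (hdim : finrank (ZMod p) V < r)
    {X : Type*} [Group X] [Finite X] (ρ : X →* Module.End (ZMod p) V) (hρ : Function.Injective ρ)
    {x : X} (hx : x ^ r = 1) (Q : Subgroup X) (hQ : IsPGroup q Q) (hnorm : x ∈ normalizer (Q : Set X)) :
    ∀ u ∈ Q, x * u = u * x := by
  classical
  have hp : p.Prime := Fact.out
  let b := Module.finBasis (ZMod p) V
  let K := GaloisField p (r - 1)
  let d := finrank (ZMod p) V
  haveI : Nonempty (Fin d) := ⟨⟨0, Module.finrank_pos⟩⟩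
  haveI : Finite K := Nat.finite_of_card_ne_zero (by
    rw [GaloisField.card p _ (by have := hr.two_le; omega)]; exact pow_ne_zero _ hp.ne_zero)
  let W := Fin d → K
  haveI : CharP K p := charP_of_injective_algebraMap (algebraMap (ZMod p) K).injective p
  let φ : X →* Module.End K W :=
    { toFun := fun g => Matrix.toLinAlgEquiv' (RingHom.mapMatrix (algebraMap (ZMod p) K)
        (LinearMap.toMatrixAlgEquiv b (ρ g)))
      map_one' := by rw [map_one, map_one, map_one, map_one]
      map_mul' := fun g h => by rw [map_mul, map_mul, map_mul, map_mul] }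
  have hφ : Function.Injective φ := fun g h e => hρ ((LinearMap.toMatrixAlgEquiv b).injective
    (Matrix.map_injective (algebraMap (ZMod p) K).injective (Matrix.toLinAlgEquiv'.injective e)))
  obtain ⟨ζ₀, hζ₀⟩ := exists_root (p := p) hr hpr
  -- a root which is not an eigenvalue
  obtain ⟨i, hi⟩ : ∃ i : Fin r, ¬ Module.End.HasEigenvalue (φ x) (ζ₀ ^ (i : ℕ)) := by
    by_contra hall
    push Not at hall
    have hinj : Function.Injective fun i : Fin r => ζ₀ ^ (i : ℕ) := fun i j e => by
      refine Fin.ext (pow_injOn_Iio_orderOf (x := ζ₀) ?_ ?_ e) <;> simp [hζ₀]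
    have hind := (Module.End.eigenspaces_iSupIndep (φ x)).comp hinj
    have hle := iSupIndep.subtype_ne_bot_le_finrank hind
    have e : Fintype.card {i : Fin r // Module.End.eigenspace (φ x) (ζ₀ ^ (i : ℕ)) ≠ ⊥} = r := by
      rw [Fintype.card_congr (Equiv.subtypeUnivEquiv fun i =>
        Module.End.hasEigenvalue_iff.1 (hall i)), Fintype.card_fin]
    simp only [Function.comp_apply] at hle
    rw [Module.finrank_fin_fun] at hle
    have : r ≤ d := e ▸ hle
    omega
  have hζ0 : ζ₀ ≠ 0 := fun h => by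
    rw [h, orderOf_zero] at hζ₀; exact hr.ne_zero hζ₀.symm
  let ζ : Kˣ := (Units.mk0 (ζ₀ ^ (i : ℕ)) (pow_ne_zero _ hζ0))⁻¹
  have hζr : ζ ^ r = 1 := by
    rw [inv_pow, inv_eq_one]
    refine Units.ext ?_
    have h1 : ζ₀ ^ r = 1 := orderOf_dvd_iff_pow_eq_one.1 hζ₀.dvd
    rw [Units.val_pow_eq_pow_val, Units.val_mk0, ← pow_mul, mul_comm, pow_mul, h1, one_pow]
    rfl
  let ψ : X →* MulAut (Multiplicative W) :=
    { toFun := fun g =>
        { toFun := fun w => Multiplicative.ofAdd (φ g w.toAdd)
          invFun := fun w => Multiplicative.ofAdd (φ g⁻¹ w.toAdd)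
          left_inv := fun w => by
            show Multiplicative.ofAdd (φ g⁻¹ (φ g w.toAdd)) = w
            rw [← Module.End.mul_apply, ← map_mul, inv_mul_cancel, map_one]; rfl
          right_inv := fun w => by
            show Multiplicative.ofAdd (φ g (φ g⁻¹ w.toAdd)) = w
            rw [← Module.End.mul_apply, ← map_mul, mul_inv_cancel, map_one]; rfl
          map_mul' := fun a c => congrArg Multiplicative.ofAdd (map_add (φ g) a.toAdd c.toAdd) }
      map_one' := MulEquiv.ext fun w => show Multiplicative.ofAdd (φ 1 w.toAdd) = w by rw [map_one]; rfl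
      map_mul' := fun g h => MulEquiv.ext fun w =>
        show Multiplicative.ofAdd (φ (g * h) w.toAdd) = Multiplicative.ofAdd (φ g (φ h w.toAdd)) by
          rw [map_mul]; rfl }
  let sc : Kˣ →* MulAut (Multiplicative W) :=
    { toFun := fun c => AddEquiv.toMultiplicative (DistribMulAction.toAddEquiv W c)
      map_one' := MulEquiv.ext fun w => congrArg Multiplicative.ofAdd (one_smul Kˣ w.toAdd)
      map_mul' := fun a c => MulEquiv.ext fun w => congrArg Multiplicative.ofAdd (mul_smul a c w.toAdd) }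
  have hψapp : ∀ g w, ψ g w = Multiplicative.ofAdd (φ g w.toAdd) := fun _ _ => rfl
  have hscapp : ∀ (c : Kˣ) w, sc c w = Multiplicative.ofAdd ((c : K) • w.toAdd) := fun _ _ => rfl
  have hsc : ∀ c g, sc c * ψ g = ψ g * sc c := fun c g => MulEquiv.ext fun w => by
    show Multiplicative.ofAdd ((c : K) • φ g w.toAdd) = Multiplicative.ofAdd (φ g ((c : K) • w.toAdd))
    exact congrArg Multiplicative.ofAdd (map_smul (φ g) (c : K) w.toAdd).symm
  have hψ : Function.Injective ψ := fun g h e => hφ (LinearMap.ext fun w => by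
    have := DFunLike.congr_fun e (Multiplicative.ofAdd w)
    rw [hψapp, hψapp, toAdd_ofAdd] at this
    exact Multiplicative.ofAdd.injective this)
  let S := sc ζ * ψ x
  have hS : S ^ r = 1 := by
    rw [(show Commute (sc ζ) (ψ x) from hsc ζ x).mul_pow, ← map_pow, ← map_pow, hζr, hx, map_one, map_one, one_mul]
  have hfix : ∀ w, S w = w → w = 1 := fun w' hw => by
    by_contra hw0
    obtain ⟨w, rfl⟩ : ∃ w, Multiplicative.ofAdd w = w' := ⟨w'.toAdd, rfl⟩
    refine hi (Module.End.hasEigenvalue_of_hasEigenvector (x := w)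
      ⟨Module.End.mem_eigenspace_iff.2 ?_, fun h => hw0 (by rw [h]; rfl)⟩)
    have h1 : ((ζ : Kˣ) : K) • φ x w = w := Multiplicative.ofAdd.injective hw
    have h2 : (ζ₀ ^ (i : ℕ)) * ((ζ : Kˣ) : K) = 1 := by
      rw [Units.val_inv_eq_inv_val, Units.val_mk0, mul_inv_cancel₀ (pow_ne_zero _ hζ0)]
    calc φ x w = (1 : K) • φ x w := (one_smul _ _).symm
      _ = (ζ₀ ^ (i : ℕ)) • w := by rw [← h2, mul_smul, h1]
  haveI : Nontrivial W := Function.nontrivial
  have hW : ∀ w : Multiplicative W, w ^ p = 1 := fun w => congrArg Multiplicative.ofAdd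
    (show p • w.toAdd = 0 from funext fun j => by
      rw [Pi.smul_apply, nsmul_eq_mul, CharP.cast_eq_zero, zero_mul]; rfl)
  have hSn : S ∈ normalizer ((Q.map ψ : Subgroup (MulAut (Multiplicative W))) : Set (MulAut (Multiplicative W))) := by
    refine mul_mem ?_ (le_normalizer_map ψ (mem_map_of_mem _ hnorm))
    refine centralizer_le_normalizer _ (mem_centralizer_iff.2 ?_)
    rintro _ ⟨g, -, rfl⟩
    exact (hsc ζ g).symm
  have h := commute_of_fpf hp hq hr hpq hpr hqr hF hW S hS hfix (Q.map ψ) (hQ.map ψ) hSn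
  intro u hu
  refine hψ ?_
  have h1 := h (ψ u) (mem_map_of_mem _ hu)
  rw [map_mul, map_mul]
  refine mul_left_cancel (a := sc ζ) ?_
  rw [← mul_assoc, h1, ← mul_assoc, ← mul_assoc, hsc ζ u]

end CfsgLib.ConjP
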