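import Cfsg.Agent.FGSB.ConjP.Structure
import Cfsg.Prelude.Def_Perm

/-!
# Orders of the semiaffine groups and the possible dimensions
-/

set_option autoImplicit false
set_option linter.unusedSectionVars false
set_option linter.style.haveILetI false

namespace CfsgLib.ConjP

open Subgroup Module

variable {p : ℕ} [hp : Fact p.Prime] {n : ℕ}

theorem finite_field (hn : n ≠ 0) : Finite (GaloisField p n) :=
  Nat.finite_of_card_ne_zero (by rw [GaloisField.card p _ hn]; exact pow_ne_zero _ hp.out.ne_zero)

theorem card_units_field (hn : n ≠ 0) : Nat.card (GaloisField p n)ˣ = p ^ n - 1 := by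
  haveI := finite_field (p := p) hn
  rw [Nat.card_units, GaloisField.card p _ hn]

theorem finite_ringAut (hn : n ≠ 0) : Finite (GaloisField p n ≃+* GaloisField p n) :=
  haveI := finite_field (p := p) hn
  Finite.of_injective (fun σ => (σ : GaloisField p n → GaloisField p n)) DFunLike.coe_injective

theorem card_ringAut_le (hn : n ≠ 0) : Nat.card (GaloisField p n ≃+* GaloisField p n) ≤ n := by
  haveI := finite_field (p := p) hn
  have h := FiniteField.natCard_algHom_of_finrank_dvd (F := ZMod p) (K := GaloisField p n) (L := GaloisField p n) dvd_rfl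
  rw [GaloisField.finrank p hn] at h
  haveI : Finite (GaloisField p n →ₐ[ZMod p] GaloisField p n) :=
    Nat.finite_of_card_ne_zero (by rw [h]; exact hn)
  refine (Nat.card_le_card_of_injective
    (fun σ : GaloisField p n ≃+* GaloisField p n =>
      ({ (σ : GaloisField p n →+* GaloisField p n) with
          commutes' := fun c => RingHom.congr_fun (Subsingleton.elim
            ((σ : GaloisField p n →+* GaloisField p n).comp (algebraMap (ZMod p) (GaloisField p n))) _) c } :
        GaloisField p n →ₐ[ZMod p] GaloisField p n)) fun σ τ e => ?_).trans h.le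
  exact RingEquiv.ext fun k => DFunLike.congr_fun e k

theorem card_semiaffine_le (hn : n ≠ 0) :
    Nat.card (Cfsg.semiaffineGroup (GaloisField p n)) ≤ p ^ n * ((p ^ n - 1) * n) := by
  haveI := finite_field (p := p) hn
  haveI := finite_ringAut (p := p) hn
  choose a b φ h using fun s : Cfsg.semiaffineGroup (GaloisField p n) => s.2
  refine (Nat.card_le_card_of_injective (fun s => (b s, a s, φ s)) fun s t e => ?_).trans ?_
  · simp only [Prod.mk.injEq] at e
    refine Subtype.ext (Equiv.ext fun k => ?_)
    rw [h s, h t, e.1, e.2.1, e.2.2]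
  · rw [Nat.card_prod, Nat.card_prod, GaloisField.card p _ hn, card_units_field hn]
    exact Nat.mul_le_mul_left _ (Nat.mul_le_mul_left _ (card_ringAut_le hn))

theorem card_affine_le (hn : n ≠ 0) :
    Nat.card (Cfsg.affineGroup (GaloisField p n)) ≤ p ^ n * (p ^ n - 1) := by
  haveI := finite_field (p := p) hn
  choose a b h using fun s : Cfsg.affineGroup (GaloisField p n) => s.2
  refine (Nat.card_le_card_of_injective (fun s => (b s, a s)) fun s t e => ?_).trans ?_
  · simp only [Prod.mk.injEq] at e
    refine Subtype.ext (Equiv.ext fun k => ?_)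
    rw [h s, h t, e.1, e.2]
  · rw [Nat.card_prod, GaloisField.card p _ hn, card_units_field hn]

variable {V : Type*} [AddCommGroup V] [Module (ZMod p) V] [Finite V] {X : Type*} [Group X] [Finite X]

/-- The possible dimensions and the orders of the group in the small cases. -/
theorem dims (hpX : ¬ p ∣ Nat.card X) (ρ : X →* Module.End (ZMod p) V)
    (hρ : Function.Injective ρ) (hn : finrank (ZMod p) V = n) (hn3 : 3 ≤ n) (hodd : Odd n)
    (e : GaloisField p n ≃+ V)
    (he : ∀ g, ∃ c : GaloisField p n, ∃ σ : GaloisField p n ≃+* GaloisField p n,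
      c ≠ 0 ∧ ∀ k, ρ g (e k) = e (c * σ k))
    (htr : ∀ W W' : Submodule (ZMod p) V, Nat.card W = Nat.card W' → ∃ g, W.map (ρ g) = W') :
    (n = 3 ∧ (p = 2 → Nat.card X = 21 ∨ Nat.card X = 7)) ∨ (n = 5 ∧ p = 2 ∧ Nat.card X = 155) := by
  classical
  have hn0 : n ≠ 0 := by omega
  haveI := finite_field (p := p) hn0
  haveI := finite_ringAut (p := p) hn0
  choose c σ hc hcσ using he
  let F : X → (GaloisField p n)ˣ × (GaloisField p n ≃+* GaloisField p n) := fun g => (Units.mk0 (c g) (hc g), σ g)
  have hFinj : Function.Injective F := fun g h eq => hρ (LinearMap.ext fun v => by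
    obtain ⟨k, rfl⟩ := e.surjective v
    simp only [F, Prod.mk.injEq] at eq
    rw [hcσ, hcσ, eq.2, show c g = c h from congrArg Units.val eq.1])
  have hub : Nat.card X ≤ (p ^ n - 1) * n := by
    refine (Nat.card_le_card_of_injective F hFinj).trans ?_
    rw [Nat.card_prod, card_units_field hn0]
    exact Nat.mul_le_mul_left _ (card_ringAut_le hn0)
  have hcardV : Nat.card V = p ^ n := by
    rw [Module.natCard_eq_pow_finrank (K := ZMod p), Nat.card_zmod, hn]
  obtain ⟨W₀, hW₀⟩ : ∃ W : Submodule (ZMod p) V, Nat.card W = p ^ 2 := by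
    by_contra hno
    push Not at hno
    haveI : IsEmpty {W : Submodule (ZMod p) V // Nat.card W = p ^ 2} := ⟨fun W => hno _ W.2⟩
    have h := planes_mul (p := p) (V := V)
    rw [Nat.card_of_isEmpty, zero_mul, hcardV] at h
    have h1 : p ^ 1 < p ^ n := Nat.pow_lt_pow_right hp.out.one_lt (by omega)
    rw [pow_one] at h1
    rcases mul_eq_zero.1 h.symm with h2 | h2
    · have := hp.out.two_le; omega
    · omega
  obtain ⟨S, hS, hmem⟩ := orbit_dvd ρ W₀ hW₀ htr
  have hpl := planes_mul (p := p) (V := V)
  rw [hS, hcardV] at hpl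
  have hdvd : S.index ∣ Nat.card X := index_dvd_card S
  have hle : S.index ≤ Nat.card X := Nat.le_of_dvd Nat.card_pos hdvd
  have h2p := hp.out.two_le
  have hkey : p ^ n - p ≤ n * ((p ^ 2 - 1) * (p ^ 2 - p)) := by
    have hpos : 0 < p ^ n - 1 := by
      have := Nat.one_lt_pow hn0 hp.out.one_lt
      omega
    refine Nat.le_of_mul_le_mul_left ?_ hpos
    rw [← hpl, ← mul_assoc (p ^ n - 1)]
    exact Nat.mul_le_mul_right _ (hle.trans hub)
  obtain ⟨a, ha⟩ := hodd
  rcases (show n = 3 ∨ n = 5 ∨ 7 ≤ n by omega) with rfl | rfl | h7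
  · refine Or.inl ⟨rfl, ?_⟩
    rintro rfl
    have h7' : S.index = 7 := by norm_num at hpl; omega
    rw [h7'] at hdvd
    norm_num at hub
    obtain ⟨k, hk⟩ := hdvd
    rcases (show k = 0 ∨ k = 1 ∨ k = 2 ∨ k = 3 ∨ 4 ≤ k by omega) with rfl | rfl | rfl | rfl | h4
    · have : 0 < Nat.card X := Nat.card_pos; omega
    · exact Or.inr hk
    · exact absurd ⟨7, hk⟩ hpX
    · exact Or.inl hk
    · omega
  · refine Or.inr ?_
    have hp3 : p = 2 ∨ p = 3 := by
      by_contra hne
      push Not at hne
      have h5 : 5 ≤ p := by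
        by_contra h5
        have : p = 4 := by omega
        exact absurd (this ▸ hp.out) (by norm_num)
      obtain ⟨b, rfl⟩ : ∃ b, p = b + 5 := ⟨p - 5, by omega⟩
      have e1 : (b + 5) ^ 2 - 1 = b ^ 2 + 10 * b + 24 := by rw [Nat.sub_eq_iff_eq_add (by nlinarith)]; ring
      have e2 : (b + 5) ^ 2 - (b + 5) = b ^ 2 + 9 * b + 20 := by rw [Nat.sub_eq_iff_eq_add (by nlinarith)]; ring
      rw [e1, e2, Nat.sub_le_iff_le_add] at hkey
      ring_nf at hkey
      nlinarith [pow_nonneg (Nat.zero_le b) 5, pow_nonneg (Nat.zero_le b) 4, pow_nonneg (Nat.zero_le b) 3]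
    rcases hp3 with rfl | rfl
    · norm_num at hub hpl
      have h155 : S.index = 155 := by omega
      exact ⟨rfl, rfl, by omega⟩
    · exfalso
      norm_num at hub hpl
      have h1210 : S.index = 1210 := by omega
      have hX : Nat.card X = 1210 := by omega
      have hS1 : Nat.card S = 1 := by
        have := S.card_mul_index
        rw [h1210, hX] at this
        omega
      haveI : Fintype (GaloisField 3 5)ˣ := Fintype.ofFinite _
      have hcardT : Nat.card ((GaloisField 3 5)ˣ × (GaloisField 3 5 ≃+* GaloisField 3 5)) ≤ Nat.card X := by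
        rw [Nat.card_prod, card_units_field (by norm_num), hX]
        exact (Nat.mul_le_mul_left _ (card_ringAut_le (by norm_num))).trans (by norm_num)
      obtain ⟨g, hg⟩ := ((Nat.bijective_iff_injective_and_card F).2
        ⟨hFinj, le_antisymm (Nat.card_le_card_of_injective F hFinj) hcardT⟩).2
          (-1, RingEquiv.refl _)
      simp only [F, Prod.mk.injEq] at hg
      have hneg : ∀ v, ρ g v = -v := fun v => by
        obtain ⟨k, rfl⟩ := e.surjective v
        rw [hcσ, hg.2, show c g = -1 from congrArg Units.val hg.1, RingEquiv.refl_apply, neg_one_mul, map_neg]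
      have hgS : g ∈ S := (hmem g).2 (by
        ext w
        constructor
        · rintro ⟨u, hu, rfl⟩
          rw [hneg]
          exact W₀.neg_mem hu
        · exact fun hw => ⟨-w, W₀.neg_mem hw, by rw [hneg, neg_neg]⟩)
      have hg1 : g = 1 := by
        have := eq_bot_of_card_eq S hS1
        rwa [this, mem_bot] at hgS
      have h1 : (e 1 : V) = - e 1 := by
        have := hneg (e 1)
        rwa [hg1, map_one, Module.End.one_apply] at this
      rw [← map_neg] at h1
      have h2 : (2 : GaloisField 3 5) = 0 := by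
        rw [← one_add_one_eq_two]
        exact eq_neg_iff_add_eq_zero.1 (e.injective h1)
      haveI : CharP (GaloisField 3 5) 3 := charP_of_injective_algebraMap (algebraMap (ZMod 3) _).injective 3
      have := (CharP.cast_eq_zero_iff (GaloisField 3 5) 3 2).1 (by exact_mod_cast h2)
      norm_num at this
  · exfalso
    obtain ⟨b, rfl⟩ : ∃ b, n = b + 7 := ⟨n - 7, by omega⟩
    have hb : b + 8 ≤ p ^ (b + 3) := by
      have : ∀ b, b + 8 ≤ 2 ^ (b + 3) := fun b => by
        induction b with
        | zero => norm_num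
        | succ b ih => rw [show b + 1 + 3 = (b + 3) + 1 by omega, pow_succ]; omega
      exact (this b).trans (Nat.pow_le_pow_left h2p _)
    have h4 : (b + 8) * p ^ 4 ≤ p ^ (b + 7) := by
      rw [show b + 7 = (b + 3) + 4 by omega, pow_add]
      exact Nat.mul_le_mul_right _ hb
    have h5 : (p ^ 2 - 1) * (p ^ 2 - p) ≤ p ^ 4 := by
      rw [show (4 : ℕ) = 2 + 2 from rfl, pow_add]
      exact Nat.mul_le_mul (Nat.sub_le _ _) (Nat.sub_le _ _)
    have h6 : p < p ^ 4 := by
      calc p = p ^ 1 := (pow_one p).symm
        _ < p ^ 4 := Nat.pow_lt_pow_right hp.out.one_lt (by norm_num)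
    have h7 : p ^ (b + 7) - p ≤ (b + 7) * p ^ 4 := hkey.trans (Nat.mul_le_mul_left _ h5)
    have : (b + 8) * p ^ 4 = (b + 7) * p ^ 4 + p ^ 4 := by ring
    omega

end CfsgLib.ConjP
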